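import Cfsg.Agent.H740.K4.Four
import Cfsg.Agent.H740.K4.Equiv
import Cfsg.Agent.H740.K4.Scheme
import Cfsg.Agent.H877.BSgnDeg

/-!
# S4547, S4947: the Baby Monster (helper645)

The constituents of degrees `4371`, `63532485` (signed axes, helper877) and `96255` (axes, helper995) are rational
valued and of `31`-defect zero; with the trivial character their values at an element of order `31` have the
odd sum `1`, so there is a fifth odd degree character fixed by the cubing automorphism in the principal 2-block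
(helper740's `good5_of_defect_zero`).
-/

set_option autoImplicit false
set_option linter.constructorNameAsVariable false

namespace Cfsg.Agent.H645.K4.B

open Cfsg Cfsg.Agent.Characters.Core
open Cfsg.Agent.BabyM.Inst Cfsg.Agent.H816.IMEig Cfsg.Agent.H816.IMEig.Col Cfsg.Agent.H740.K4

universe u

/-- A rational constituent of the permutation character on the signed axes. -/
theorem rat8 {θ : ℂ} {ω : Fin 8 → ℂ} (hE : Eig (3 : Fin 8) 0 Cfsg.Agent.H877.BSgn.t8 θ ω)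
    (hq : ∀ u, ∃ q : ℚ, ω u = q) {f : ℕ}
    (hf : (f : ℂ) * ∑ u, ((∑ w, Cfsg.Agent.H877.BSgn.t8 u w : ℕ) : ℂ) * ω u ^ 2 = 27143910000) :
    ∃ χ : M.G → ℂ, IsIrrCharacter M.G χ ∧ χ 1 = (f : ℂ) ∧ ∀ g, ∃ q : ℚ, χ g = q := by
  have := Cfsg.Agent.BabyM.Instance.all.finite_G
  obtain ⟨z₀, h1, h2⟩ := Cfsg.Agent.H877.BSgn.exists_z8'
  refine Scheme.exists_degree_rat (Cfsg.Agent.H877.BSgn.isCol8 Cfsg.Agent.H995.BSchVal.sch
    Cfsg.Agent.H877.BSgn.sgn BabyM.Instance.all BabyM.Instance.tr) (x₀ := QuotientGroup.mk 1) (z₀ := z₀)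
    (t := Cfsg.Agent.H877.BSgn.t8) (θ := θ) (ω := ω) h2 (by rw [h1]; exact hE) hq ?_
  rw [Cfsg.Agent.H877.BSgn.card_X0 BabyM.Instance.all, hf]
  norm_num

/-- A rational constituent of the permutation character on the axes. -/
theorem rat5 {θ : ℂ} {ω : Fin 5 → ℂ} (hE : Eig (1 : Fin 5) 0 Cfsg.Agent.H995.IMB.t θ ω)
    (hq : ∀ u, ∃ q : ℚ, ω u = q) {f : ℕ}
    (hf : (f : ℂ) * ∑ u, ((∑ w, Cfsg.Agent.H995.IMB.t u w : ℕ) : ℂ) * ω u ^ 2 = 13571955000) :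
    ∃ χ : M.G → ℂ, IsIrrCharacter M.G χ ∧ χ 1 = (f : ℂ) ∧ ∀ g, ∃ q : ℚ, χ g = q := by
  have := Cfsg.Agent.BabyM.Instance.all.finite_G
  obtain ⟨z₀, h1, h2⟩ := Cfsg.Agent.H995.IMB.exists_z
  refine Scheme.exists_degree_rat (Cfsg.Agent.H995.BSchVal.sch.isCol BabyM.Instance.all BabyM.Instance.tr)
    (x₀ := QuotientGroup.mk 1) (z₀ := z₀)
    (t := Cfsg.Agent.H995.IMB.t) (θ := θ) (ω := ω) h2 (by rw [h1]; exact hE) hq ?_
  rw [Cfsg.Agent.H995.BSch.card_X BabyM.Instance.all BabyM.Instance.tr, hf]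
  norm_num

theorem rat_4371 : ∃ χ : M.G → ℂ, IsIrrCharacter M.G χ ∧ χ 1 = ((4371 : ℕ) : ℂ) ∧ ∀ g, ∃ q : ℚ, χ g = q := by
  refine rat8 (θ := -566865) (ω := Cfsg.Agent.H877.BSgn.v0) Cfsg.Agent.H877.BSgn.eigv0 ?_ ?_
  · intro u
    refine ⟨(![1, -1, 1/7, -1/7, 1/28, -1/28, 0, 0] : Fin 8 → ℚ) u, ?_⟩
    fin_cases u <;> simp [Cfsg.Agent.H877.BSgn.v0]
  · simp only [Fin.sum_univ_eight]
    simp [Cfsg.Agent.H877.BSgn.t8, Cfsg.Agent.H877.BSgn.v0]
    norm_num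

theorem rat_63532485 :
    ∃ χ : M.G → ℂ, IsIrrCharacter M.G χ ∧ χ 1 = ((63532485 : ℕ) : ℂ) ∧ ∀ g, ∃ q : ℚ, χ g = q := by
  refine rat8 (θ := -28665) (ω := Cfsg.Agent.H877.BSgn.v1) Cfsg.Agent.H877.BSgn.eigv1 ?_ ?_
  · intro u
    refine ⟨(![1, -1, 7/969, -7/969, -1/20672, 1/20672, 0, 0] : Fin 8 → ℚ) u, ?_⟩
    fin_cases u <;> simp [Cfsg.Agent.H877.BSgn.v1]
  · simp only [Fin.sum_univ_eight]
    simp [Cfsg.Agent.H877.BSgn.t8, Cfsg.Agent.H877.BSgn.v1]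
    norm_num

theorem rat_96255 : ∃ χ : M.G → ℂ, IsIrrCharacter M.G χ ∧ χ 1 = ((96255 : ℕ) : ℂ) ∧ ∀ g, ∃ q : ℚ, χ g = q := by
  refine rat5 (θ := 228735) (ω := Cfsg.Agent.H995.IMB.w0) Cfsg.Agent.H995.IMB.eig0 ?_ ?_
  · intro u
    refine ⟨(![1, 23/399, -7/228, 13/2128, -1/798] : Fin 5 → ℚ) u, ?_⟩
    fin_cases u <;> simp [Cfsg.Agent.H995.IMB.w0]
  · simp only [Fin.sum_univ_five]
    simp [Cfsg.Agent.H995.IMB.t, Cfsg.Agent.H995.IMB.w0]
    norm_num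

/-- **The Baby Monster.** -/
theorem good5_model : H601.K4.Good5 ↥M.G := by
  have := Cfsg.Agent.BabyM.Instance.all.finite_G
  have hcard : Nat.card ↥M.G = 4154781481226426191177580544000000 := by
    rw [← Nat.card_congr Cfsg.Agent.BM.KHAll.iso.toEquiv, Cfsg.Agent.BM.KHAll.card_B]
  obtain ⟨a, ha, ha1, haq⟩ := rat_4371
  obtain ⟨b, hb, hb1, hbq⟩ := rat_96255
  obtain ⟨c, hc, hc1, hcq⟩ := rat_63532485
  refine good5_of_defect_zero (p := 31) (n := 1) (χ := ![a, b, c])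
    (d := ![4371, 96255, 63532485]) ?_ (by norm_num) (by decide) one_ne_zero ?_ ?_ ?_ ?_ ?_
    (by decide) (by decide) (by decide) (by decide)
  · rw [hcard]
    decide
  · rw [hcard]
    decide
  · rw [hcard]
    decide
  · intro i
    fin_cases i <;> assumption
  · intro i
    fin_cases i <;> assumption
  · intro i
    fin_cases i <;> assumption

/-- **Row (A) of S4547 for the Baby Monster.** -/
theorem good5_b {S : Type u} [Group S] (h : Spor.IsoB S) : H601.K4.Good5 S := by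
  obtain ⟨e⟩ := h
  exact good5_of_equiv (e.trans Cfsg.Agent.BM.KHAll.iso) good5_model

end Cfsg.Agent.H645.K4.B
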