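import Cfsg.Prelude.Def_Blocks
import Cfsg.Agent.CharDeep.FrobKernel
import Cfsg.Agent.Characters.GaloisBasic
import Cfsg.Agent.S0165

/-!
# Counting irreducible characters of odd degree (S4947)

* `k0 S` : the number of irreducible characters of odd degree;
* `four_dvd` : `4 ∣ |S|` implies `4 ∣ k0 S`;
* `parity` : the sum of the irreducible characters of odd degree at `x ≠ 1` is twice an algebraic integer;
* `five_of_four` : four irreducible characters of odd degree whose sum at some `x ≠ 1` is an odd integer;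
* `five_of_defect_zero` : three nontrivial irreducible characters of odd degree and `p`-defect zero;
* `exists_fourth` : if `k0 S ≤ 4` and three of the characters are known, there is exactly one more.
-/

set_option autoImplicit false

namespace Cfsg.Agent.H645.K4

open Cfsg Cfsg.Agent.Characters.Core Cfsg.Agent.Characters

section

variable {S : Type*} [Group S]

/-- The number of irreducible characters of odd degree. -/
noncomputable def k0 (S : Type*) [Group S] : ℕ :=
  Nat.card {χ : IrrCharacter S // ¬ 2 ∣ charDegree (χ : S → ℂ)}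

theorem k0_congr {S T : Type*} [Group S] [Group T] (e : S ≃* T) : k0 S = k0 T := by
  unfold k0
  refine Nat.card_congr
    { toFun := fun χ => ⟨⟨fun x => (χ.1 : S → ℂ) (e.symm x), isIrr_comp e.symm.toMonoidHom e.symm.surjective χ.1.2⟩, ?_⟩
      invFun := fun χ => ⟨⟨fun x => (χ.1 : T → ℂ) (e x), isIrr_comp e.toMonoidHom e.surjective χ.1.2⟩, ?_⟩
      left_inv := ?_
      right_inv := ?_ }
  · have h := χ.2
    unfold charDegree at h ⊢
    simpa using h
  · have h := χ.2
    unfold charDegree at h ⊢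
    simpa using h
  · intro χ
    apply Subtype.ext
    apply Subtype.ext
    funext x
    simp
  · intro χ
    apply Subtype.ext
    apply Subtype.ext
    funext x
    simp

/-- The degree. -/
theorem charDegree_eq {χ : S → ℂ} {n : ℕ} (h : χ 1 = n) : charDegree χ = n := by
  unfold charDegree
  rw [h, Complex.natCast_re, Nat.floor_natCast]

theorem apply_one (χ : IrrCharacter S) : (χ : S → ℂ) 1 = (charDegree (χ : S → ℂ) : ℂ) := by
  obtain ⟨n, -, hn⟩ := isIrr_apply_one χ.2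
  rw [charDegree_eq hn, hn]

variable [Finite S]

omit [Finite S] in
theorem card_eq [Fintype (IrrCharacter S)] (A : Finset (IrrCharacter S))
    (hA : ∀ χ : IrrCharacter S, χ ∈ A ↔ ¬ 2 ∣ charDegree (χ : S → ℂ)) : k0 S = A.card := by
  unfold k0
  rw [← Nat.card_eq_finsetCard]
  exact Nat.card_congr (Equiv.subtypeEquivRight fun χ => (hA χ).symm)

/-- `k0 S` is divisible by four if the order of `S` is. -/
theorem four_dvd (h4 : 4 ∣ Nat.card S) : 4 ∣ k0 S := by
  classical
  have := Fintype.ofFinite S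
  have := finite_irr (G := S)
  have := Fintype.ofFinite (IrrCharacter S)
  have h1 := CharDeep.FrobKernel.sum_degree_mul_apply (1 : S)
  rw [if_pos rfl] at h1
  have h2 : ∑ χ : IrrCharacter S, charDegree (χ : S → ℂ) ^ 2 = Nat.card S := by
    have h3 : ((∑ χ : IrrCharacter S, charDegree (χ : S → ℂ) ^ 2 : ℕ) : ℂ) = Nat.card S := by
      rw [← h1]
      push_cast
      exact Finset.sum_congr rfl fun χ _ => by rw [apply_one χ, pow_two]
    exact_mod_cast h3
  have h3 : ((∑ χ : IrrCharacter S, charDegree (χ : S → ℂ) ^ 2 : ℕ) : ZMod 4) =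
      ((Finset.univ.filter fun χ : IrrCharacter S => ¬ 2 ∣ charDegree (χ : S → ℂ)).card : ZMod 4) := by
    rw [Finset.card_filter, Nat.cast_sum, Nat.cast_sum]
    refine Finset.sum_congr rfl fun χ _ => ?_
    by_cases h : 2 ∣ charDegree (χ : S → ℂ)
    · obtain ⟨k, hk⟩ := id h
      rw [if_neg (not_not.2 h), hk]
      push_cast
      have : ∀ a : ZMod 4, (2 * a) ^ 2 = 0 := by decide
      exact this _
    · obtain ⟨k, hk⟩ := Nat.odd_iff.2 (Nat.two_dvd_ne_zero.1 h)
      rw [if_pos h, hk]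
      push_cast
      have : ∀ a : ZMod 4, (2 * a + 1) ^ 2 = 1 := by decide
      exact this _
  rw [h2] at h3
  rw [card_eq (Finset.univ.filter fun χ : IrrCharacter S => ¬ 2 ∣ charDegree (χ : S → ℂ)) (by simp)]
  have h5 : ((Nat.card S : ℕ) : ZMod 4) = 0 := (ZMod.natCast_eq_zero_iff _ _).2 h4
  rw [h5] at h3
  exact (ZMod.natCast_eq_zero_iff _ _).1 h3.symm

/-- **Column parity**: the sum of the characters of odd degree at `x ≠ 1` is twice an algebraic integer. -/
theorem parity (A : Finset (IrrCharacter S))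
    (hA : ∀ χ : IrrCharacter S, χ ∈ A ↔ ¬ 2 ∣ charDegree (χ : S → ℂ)) {x : S} (hx : x ≠ 1) :
    ∃ c : ℂ, IsIntegral ℤ c ∧ ∑ χ ∈ A, (χ : S → ℂ) x = 2 * c := by
  classical
  have := Fintype.ofFinite S
  have := finite_irr (G := S)
  have := Fintype.ofFinite (IrrCharacter S)
  have h1 := CharDeep.FrobKernel.sum_degree_mul_apply x
  rw [if_neg hx] at h1
  have h2 : ∀ χ : IrrCharacter S, ∃ k : ℕ, charDegree (χ : S → ℂ) = 2 * k + if χ ∈ A then 1 else 0 := by
    intro χ
    by_cases h : χ ∈ A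
    · obtain ⟨k, hk⟩ := Nat.odd_iff.2 (Nat.two_dvd_ne_zero.1 ((hA χ).1 h))
      exact ⟨k, by rw [if_pos h, hk]⟩
    · obtain ⟨k, hk⟩ := not_not.1 (mt (hA χ).2 h)
      exact ⟨k, by rw [if_neg h, hk, add_zero]⟩
  choose k hk using h2
  refine ⟨-∑ χ : IrrCharacter S, (k χ : ℂ) * (χ : S → ℂ) x, ?_, ?_⟩
  · refine (IsIntegral.sum _ fun χ _ => ?_).neg
    exact (isIntegral_algebraMap (R := ℤ) (x := (k χ : ℤ))).mul
      (GaloisBasic.isIntegral_apply (isIrr_isCharacter χ.2) x) |> fun h => by simpa using h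
  · have h3 : ∑ χ : IrrCharacter S, (χ : S → ℂ) 1 * (χ : S → ℂ) x =
        2 * ∑ χ : IrrCharacter S, (k χ : ℂ) * (χ : S → ℂ) x + ∑ χ ∈ A, (χ : S → ℂ) x := by
      rw [Finset.mul_sum, ← Finset.sum_filter_add_sum_filter_not Finset.univ (fun χ => χ ∈ A)
        (fun χ : IrrCharacter S => (χ : S → ℂ) 1 * (χ : S → ℂ) x)]
      rw [← Finset.sum_filter_add_sum_filter_not Finset.univ (fun χ => χ ∈ A)
        (fun χ : IrrCharacter S => 2 * ((k χ : ℂ) * (χ : S → ℂ) x))]
      have h4 : Finset.univ.filter (fun χ => χ ∈ A) = A := by ext χ; simp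
      rw [h4]
      have h5 : ∑ χ ∈ A, (χ : S → ℂ) 1 * (χ : S → ℂ) x =
          ∑ χ ∈ A, 2 * ((k χ : ℂ) * (χ : S → ℂ) x) + ∑ χ ∈ A, (χ : S → ℂ) x := by
        rw [← Finset.sum_add_distrib]
        refine Finset.sum_congr rfl fun χ hχ => ?_
        rw [apply_one χ, hk χ, if_pos hχ]
        push_cast
        ring
      have h6 : ∑ χ ∈ Finset.univ.filter (fun χ => χ ∉ A), (χ : S → ℂ) 1 * (χ : S → ℂ) x =
          ∑ χ ∈ Finset.univ.filter (fun χ => χ ∉ A), 2 * ((k χ : ℂ) * (χ : S → ℂ) x) := by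
        refine Finset.sum_congr rfl fun χ hχ => ?_
        rw [apply_one χ, hk χ, if_neg (Finset.mem_filter.1 hχ).2]
        push_cast
        ring
      rw [h5, h6]
      ring
    rw [h1] at h3
    linear_combination -h3

/-- If `k0 S ≤ 4`, four characters of odd degree are all of them. -/
theorem mem_iff_of_four (A : Finset (IrrCharacter S)) (hA : ∀ χ ∈ A, ¬ 2 ∣ charDegree (χ : S → ℂ))
    (hc : 4 ≤ A.card) (h : k0 S ≤ 4) (χ : IrrCharacter S) : χ ∈ A ↔ ¬ 2 ∣ charDegree (χ : S → ℂ) := by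
  classical
  have := finite_irr (G := S)
  have := Fintype.ofFinite (IrrCharacter S)
  have h1 : A ⊆ Finset.univ.filter fun χ : IrrCharacter S => ¬ 2 ∣ charDegree (χ : S → ℂ) := fun χ hχ => by
    simpa using hA χ hχ
  have h2 := card_eq (Finset.univ.filter fun χ : IrrCharacter S => ¬ 2 ∣ charDegree (χ : S → ℂ)) (by simp)
  have h3 := Finset.eq_of_subset_of_card_le h1 (by omega)
  rw [h3]
  simp

/-- **Four characters of odd degree with an odd sum at an element `x ≠ 1`.** -/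
theorem five_of_four (A : Finset (IrrCharacter S)) (hA : ∀ χ ∈ A, ¬ 2 ∣ charDegree (χ : S → ℂ))
    (hc : 4 ≤ A.card) {x : S} (hx : x ≠ 1) {n : ℤ} (hn : Odd n) (hs : ∑ χ ∈ A, (χ : S → ℂ) x = n) : 5 ≤ k0 S := by
  by_contra hcon
  obtain ⟨c, hc', he⟩ := parity A (mem_iff_of_four A hA hc (by omega)) hx
  rw [hs] at he
  obtain ⟨m, hm⟩ := GaloisBasic.exists_int_of_isIntegral hc' ⟨(n : ℚ) / 2, by
    push_cast
    rw [he]; ring⟩
  rw [hm] at he
  have h2 : n = 2 * m := by exact_mod_cast he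
  rw [h2] at hn
  exact (Int.not_odd_iff_even.2 (even_two_mul m)) hn

/-- **Three nontrivial characters of odd degree and `p`-defect zero.** -/
theorem five_of_defect_zero {p n : ℕ} (hp : p.Prime) (hn : n ≠ 0) (h1 : p ^ n ∣ Nat.card S)
    (h2 : ¬ p ^ (n + 1) ∣ Nat.card S) {a b c : ℕ} (ha : ∃ χ : S → ℂ, IsIrrCharacter S χ ∧ χ 1 = (a : ℂ))
    (hb : ∃ χ : S → ℂ, IsIrrCharacter S χ ∧ χ 1 = (b : ℂ)) (hc : ∃ χ : S → ℂ, IsIrrCharacter S χ ∧ χ 1 = (c : ℂ))
    (ha2 : ¬ 2 ∣ a) (hb2 : ¬ 2 ∣ b) (hc2 : ¬ 2 ∣ c) (hpa : p ^ n ∣ a) (hpb : p ^ n ∣ b) (hpc : p ^ n ∣ c)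
    (hab : a ≠ b) (hac : a ≠ c) (hbc : b ≠ c) : 5 ≤ k0 S := by
  classical
  obtain ⟨α, hα, eα⟩ := ha
  obtain ⟨β, hβ, eβ⟩ := hb
  obtain ⟨γ, hγ, eγ⟩ := hc
  have hpn : p ∣ Nat.card S := (dvd_pow_self p hn).trans h1
  have : Fact p.Prime := ⟨hp⟩
  obtain ⟨x, hx⟩ := exists_prime_orderOf_dvd_card' p hpn
  have hz : ∀ {χ : S → ℂ} {k : ℕ}, IsIrrCharacter S χ → χ 1 = (k : ℂ) → p ^ n ∣ k → χ x = 0 := by
    rintro χ k ⟨m, ρ, hρ, rfl⟩ hk hd
    refine S0165.result ρ p n hp h1 h2 ?_ x (by rw [hx])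
    rw [Representation.char_one] at hk
    have h3 : Module.finrank ℂ (Fin m → ℂ) = k := by exact_mod_cast hk
    rwa [h3]
  have hne1 : ∀ {k : ℕ}, p ^ n ∣ k → k ≠ 1 := by
    rintro k hk rfl
    have h3 : p ∣ 1 := (dvd_pow_self p hn).trans hk
    exact hp.one_lt.ne' (Nat.dvd_one.1 h3)
  have hinj : ∀ {χ ψ : S → ℂ} {k l : ℕ}, χ 1 = (k : ℂ) → ψ 1 = (l : ℂ) → k ≠ l → χ ≠ ψ := by
    rintro χ ψ k l hk hl hkl rfl
    exact hkl (by exact_mod_cast hk.symm.trans hl)
  have h11 : (1 : S → ℂ) 1 = ((1 : ℕ) : ℂ) := by simp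
  let I : IrrCharacter S := ⟨1, isIrr_one⟩
  let A' : IrrCharacter S := ⟨α, hα⟩
  let B' : IrrCharacter S := ⟨β, hβ⟩
  let C' : IrrCharacter S := ⟨γ, hγ⟩
  have hIA : I ≠ A' := fun h => hinj h11 eα (hne1 hpa).symm (congrArg Subtype.val h)
  have hIB : I ≠ B' := fun h => hinj h11 eβ (hne1 hpb).symm (congrArg Subtype.val h)
  have hIC : I ≠ C' := fun h => hinj h11 eγ (hne1 hpc).symm (congrArg Subtype.val h)
  have hAB : A' ≠ B' := fun h => hinj eα eβ hab (congrArg Subtype.val h)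
  have hAC : A' ≠ C' := fun h => hinj eα eγ hac (congrArg Subtype.val h)
  have hBC : B' ≠ C' := fun h => hinj eβ eγ hbc (congrArg Subtype.val h)
  have hx1 : x ≠ 1 := by
    rintro rfl
    rw [orderOf_one] at hx
    exact hp.one_lt.ne hx
  refine five_of_four {I, A', B', C'} ?_ ?_ hx1 odd_one ?_
  · intro χ hχ
    simp only [Finset.mem_insert, Finset.mem_singleton] at hχ
    rcases hχ with rfl | rfl | rfl | rfl
    · rw [show charDegree ((I : IrrCharacter S) : S → ℂ) = 1 from charDegree_eq h11]; decide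
    · rw [show charDegree ((A' : IrrCharacter S) : S → ℂ) = a from charDegree_eq eα]; exact ha2
    · rw [show charDegree ((B' : IrrCharacter S) : S → ℂ) = b from charDegree_eq eβ]; exact hb2
    · rw [show charDegree ((C' : IrrCharacter S) : S → ℂ) = c from charDegree_eq eγ]; exact hc2
  · rw [Finset.card_insert_of_notMem (by simp [hIA, hIB, hIC]), Finset.card_insert_of_notMem (by simp [hAB, hAC]),
      Finset.card_insert_of_notMem (by simp [hBC]), Finset.card_singleton]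
  · rw [Finset.sum_insert (by simp [hIA, hIB, hIC]), Finset.sum_insert (by simp [hAB, hAC]),
      Finset.sum_insert (by simp [hBC]), Finset.sum_singleton]
    change (1 : ℂ) + (α x + (β x + γ x)) = _
    rw [hz hα eα hpa, hz hβ eβ hpb, hz hγ eγ hpc]
    simp

end

end Cfsg.Agent.H645.K4
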